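import Mathlib

/-! Étale neighbourhoods realising a finite separable residue field extension. -/

universe u
set_option linter.style.haveILetI false
open Polynomial IntermediateField

namespace Groth.Agent.H8.ESS

variable {R : Type u} [CommRing R] (p : Ideal R) [p.IsPrime]

/-- every element of the residue field at `p` is a fraction -/
theorem exists_frac (c : p.ResidueField) :
    ∃ (r : R) (t : R), t ∉ p ∧
      c * algebraMap R p.ResidueField t = algebraMap R p.ResidueField r := by
  obtain ⟨x, rfl⟩ := IsLocalRing.residue_surjective (R := Localization.AtPrime p) c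
  obtain ⟨⟨r, ⟨t, ht⟩⟩, rfl⟩ := IsLocalization.mk'_surjective p.primeCompl x
  refine ⟨r, t, ht, ?_⟩
  rw [IsScalarTower.algebraMap_apply R (Localization.AtPrime p) p.ResidueField,
    IsScalarTower.algebraMap_apply R (Localization.AtPrime p) p.ResidueField,
    IsLocalRing.ResidueField.algebraMap_eq, ← map_mul]
  congr 1
  exact IsLocalization.mk'_spec _ r ⟨t, ht⟩

theorem exists_common_denominator (F : Finset p.ResidueField) :
    ∃ s : R, s ∉ p ∧ ∀ c ∈ F, ∃ r : R,
      c * algebraMap R p.ResidueField s = algebraMap R p.ResidueField r := by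
  classical
  induction F using Finset.induction_on with
  | empty => exact ⟨1, (p.ne_top_iff_one).mp (Ideal.IsPrime.ne_top ‹_›), by simp⟩
  | insert c F hc ih =>
    obtain ⟨s, hs, h⟩ := ih
    obtain ⟨r, t, ht, hrt⟩ := exists_frac p c
    refine ⟨s * t, Ideal.IsPrime.mul_notMem ‹_› hs ht, ?_⟩
    intro c' hc'
    rcases Finset.mem_insert.mp hc' with rfl | hc'
    · exact ⟨s * r, by rw [map_mul, map_mul, ← hrt]; ring⟩
    · obtain ⟨r', hr'⟩ := h c' hc'
      exact ⟨r' * t, by rw [map_mul, map_mul, ← hr']; ring⟩

/-- **(RF)** -/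
theorem exists_etale_residue_ext (κ' : Type u) [Field κ'] [Algebra p.ResidueField κ']
    [Module.Finite p.ResidueField κ'] [Algebra.IsSeparable p.ResidueField κ']
    [Algebra R κ'] [IsScalarTower R p.ResidueField κ'] {n : ℕ} (abar : Fin n → κ') :
    ∃ (R₁ : Type u) (_ : CommRing R₁) (_ : Algebra R R₁) (_ : Algebra.Etale R R₁)
      (β : R₁ →ₐ[R] κ'), ∀ i, abar i ∈ β.range := by
  classical
  obtain ⟨θ, hθ⟩ := Field.exists_primitive_element p.ResidueField κ'
  have hint : IsIntegral p.ResidueField θ := Algebra.IsIntegral.isIntegral θ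
  have hmonic : (minpoly p.ResidueField θ).Monic := minpoly.monic hint
  have hsep : (minpoly p.ResidueField θ).Separable :=
    Algebra.IsSeparable.isSeparable p.ResidueField θ
  have hroot : aeval θ (minpoly p.ResidueField θ) = 0 := minpoly.aeval p.ResidueField θ
  have hder : aeval θ (derivative (minpoly p.ResidueField θ)) ≠ 0 :=
    hsep.aeval_derivative_ne_zero hroot
  have hg : ∀ i, ∃ g : p.ResidueField[X], aeval θ g = abar i := by
    intro i
    have h1 : abar i ∈ (p.ResidueField⟮θ⟯ : IntermediateField p.ResidueField κ') := by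
      rw [hθ]; trivial
    have h2 : abar i ∈ Algebra.adjoin p.ResidueField {θ} := by
      rw [← IntermediateField.adjoin_simple_toSubalgebra_of_isAlgebraic hint.isAlgebraic]
      exact h1
    rw [Algebra.adjoin_singleton_eq_range_aeval] at h2
    exact h2
  choose gbar hgbar using hg
  let F : Finset p.ResidueField :=
    (minpoly p.ResidueField θ).coeffs ∪ Finset.univ.biUnion (fun i => (gbar i).coeffs)
  obtain ⟨s, hs, hF⟩ := exists_common_denominator p F
  have hsu : IsUnit (algebraMap R p.ResidueField s) := by
    rw [isUnit_iff_ne_zero]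
    intro h0
    apply hs
    rwa [Ideal.algebraMap_residueField_eq_zero] at h0
  let ψ : Localization.Away s →+* p.ResidueField := IsLocalization.Away.lift s hsu
  have hψ : ∀ r, ψ (algebraMap R _ r) = algebraMap R p.ResidueField r :=
    fun r => IsLocalization.Away.lift_eq s hsu r
  have hrange : ∀ c ∈ F, c ∈ Set.range ψ := by
    intro c hc
    obtain ⟨r, hr⟩ := hF c hc
    refine ⟨IsLocalization.mk' _ r ⟨s, Submonoid.mem_powers s⟩, ?_⟩
    have : ψ (IsLocalization.mk' (Localization.Away s) r ⟨s, Submonoid.mem_powers s⟩) *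
        algebraMap R p.ResidueField s = algebraMap R p.ResidueField r := by
      rw [← hψ s, ← map_mul]
      have := IsLocalization.mk'_spec (Localization.Away s) r ⟨s, Submonoid.mem_powers s⟩
      rw [this, hψ]
    exact hsu.mul_right_cancel (this.trans hr.symm)
  have hlift : ∀ q : p.ResidueField[X], (∀ c ∈ q.coeffs, c ∈ F) → q ∈ lifts ψ := by
    intro q hq
    rw [lifts_iff_coeff_lifts]
    intro m
    by_cases h0 : q.coeff m = 0
    · rw [h0]; exact ⟨0, map_zero _⟩
    · exact hrange _ (hq _ (Polynomial.coeff_mem_coeffs h0))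
  obtain ⟨h, hmap, -, hhm⟩ := lifts_and_natDegree_eq_and_monic
    (hlift (minpoly p.ResidueField θ) (fun c hc => Finset.mem_union_left _ hc)) hmonic
  have hgl : ∀ i, ∃ g : (Localization.Away s)[X], g.map ψ = gbar i := fun i =>
    (mem_lifts _).mp (hlift (gbar i) (fun c hc =>
      Finset.mem_union_right _ (Finset.mem_biUnion.mpr ⟨i, Finset.mem_univ i, hc⟩)))
  choose g hgmap using hgl
  let P : StandardEtalePair (Localization.Away s) :=
    ⟨h, hhm, derivative h, ⟨1, 0, 1, by simp⟩⟩
  letI : Algebra (Localization.Away s) p.ResidueField := ψ.toAlgebra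
  letI : Algebra (Localization.Away s) κ' := ((algebraMap p.ResidueField κ').comp ψ).toAlgebra
  haveI : IsScalarTower (Localization.Away s) p.ResidueField κ' :=
    IsScalarTower.of_algebraMap_eq' rfl
  haveI : IsScalarTower R (Localization.Away s) κ' := IsScalarTower.of_algebraMap_eq' (by
    ext r
    rw [RingHom.comp_apply]
    change algebraMap R κ' r = algebraMap p.ResidueField κ' (ψ (algebraMap R _ r))
    rw [hψ, ← IsScalarTower.algebraMap_apply])
  have haev : ∀ q : (Localization.Away s)[X], aeval θ q = aeval θ (q.map ψ) := fun q =>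
    (aeval_map_algebraMap p.ResidueField θ q).symm
  have hmapP : P.HasMap θ := by
    refine ⟨?_, ?_⟩
    · change aeval θ h = 0
      rw [haev, hmap]
      exact hroot
    · change IsUnit (aeval θ (derivative h))
      rw [haev, ← derivative_map, hmap]
      exact isUnit_iff_ne_zero.mpr hder
  let βs : P.Ring →ₐ[Localization.Away s] κ' := P.lift θ hmapP
  letI : Algebra R P.Ring :=
    ((algebraMap (Localization.Away s) P.Ring).comp (algebraMap R (Localization.Away s))).toAlgebra
  haveI : IsScalarTower R (Localization.Away s) P.Ring := IsScalarTower.of_algebraMap_eq' rfl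
  haveI : Algebra.Etale R (Localization.Away s) := Algebra.Etale.of_isLocalizationAway s
  haveI : Algebra.Etale R P.Ring := Algebra.Etale.comp R (Localization.Away s) P.Ring
  refine ⟨P.Ring, inferInstance, inferInstance, inferInstance, βs.restrictScalars R,
    fun i => ⟨aeval P.X (g i), ?_⟩⟩
  change βs (aeval P.X (g i)) = abar i
  rw [← aeval_algHom_apply, StandardEtalePair.lift_X, haev, hgmap, hgbar]

end Groth.Agent.H8.ESS
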