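import Mathlib

/-! A nonzero smooth algebra over a field has a point with values in a finite separable
extension. -/

universe u
set_option linter.style.haveILetI false
open Algebra

namespace Groth.Agent.H8.ESS

/-- perfect field case -/
theorem exists_sep_point_of_perfect (k : Type u) [Field k] [PerfectField k] (C : Type u)
    [CommRing C] [Algebra k C] [Algebra.FiniteType k C] [Nontrivial C] :
    ∃ (k' : Type u) (_ : Field k') (_ : Algebra k k'), Module.Finite k k' ∧
      Algebra.IsSeparable k k' ∧ Nonempty (C →ₐ[k] k') := by
  obtain ⟨M, hM⟩ := Ideal.exists_maximal C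
  letI : Field (C ⧸ M) := Ideal.Quotient.field M
  haveI : Module.Finite k (C ⧸ M) := finite_of_finite_type_of_isJacobsonRing k (C ⧸ M)
  haveI : Algebra.IsAlgebraic k (C ⧸ M) := Algebra.IsAlgebraic.of_finite k (C ⧸ M)
  exact ⟨C ⧸ M, inferInstance, inferInstance, inferInstance, inferInstance,
    ⟨Ideal.Quotient.mkₐ k M⟩⟩

/-- a field extension `k'` of `k` which is of finite type, unramified over a polynomial ring `A'`
whose variables map into `k` is finite separable -/
theorem finite_separable_of_unramified {k : Type u} [Field k] {n : ℕ} (k' : Type u) [Field k']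
    [Algebra k k'] [Algebra (MvPolynomial (Fin n) k) k']
    [IsScalarTower k (MvPolynomial (Fin n) k) k']
    [Algebra.FormallyUnramified (MvPolynomial (Fin n) k) k'] [Algebra.FiniteType k k']
    (a : Fin n → k)
    (ha : ∀ i, algebraMap (MvPolynomial (Fin n) k) k' (MvPolynomial.X i) = algebraMap k k' (a i)) :
    Module.Finite k k' ∧ Algebra.IsSeparable k k' := by
  letI : Algebra (MvPolynomial (Fin n) k) k := (MvPolynomial.aeval a).toAlgebra
  haveI : IsScalarTower (MvPolynomial (Fin n) k) k k' := by
    refine IsScalarTower.of_algebraMap_eq' ?_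
    have : (algebraMap (MvPolynomial (Fin n) k) k' : MvPolynomial (Fin n) k →+* k') =
        ((IsScalarTower.toAlgHom k (MvPolynomial (Fin n) k) k' :
          MvPolynomial (Fin n) k →ₐ[k] k') : MvPolynomial (Fin n) k →+* k') := rfl
    rw [this]
    have h2 : (IsScalarTower.toAlgHom k (MvPolynomial (Fin n) k) k') =
        (Algebra.ofId k k').comp (MvPolynomial.aeval a) := by
      apply MvPolynomial.algHom_ext
      intro i
      simp only [IsScalarTower.coe_toAlgHom', AlgHom.comp_apply, MvPolynomial.aeval_X,
        Algebra.ofId_apply]
      exact ha i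
    rw [h2]
    rfl
  haveI : Algebra.FormallyUnramified k k' :=
    Algebra.FormallyUnramified.of_restrictScalars (MvPolynomial (Fin n) k) k k'
  haveI : Algebra.EssFiniteType k k' := inferInstance
  exact ⟨Algebra.FormallyUnramified.finite_of_free (R := k) (S := k'),
    Algebra.FormallyUnramified.isSeparable k k'⟩

/-- **(SP)**: a nonzero smooth algebra over a field has a point with values in a finite separable
extension. -/
theorem exists_sep_point (k : Type u) [Field k] (C : Type u) [CommRing C] [Algebra k C]
    [Algebra.Smooth k C] [Nontrivial C] :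
    ∃ (k' : Type u) (_ : Field k') (_ : Algebra k k'), Module.Finite k k' ∧
      Algebra.IsSeparable k k' ∧ Nonempty (C →ₐ[k] k') := by
  haveI : Algebra.FinitePresentation k C := inferInstance
  haveI : Algebra.FiniteType k C := inferInstance
  by_cases hfin : Finite k
  · haveI := hfin
    haveI : PerfectField k := PerfectField.ofFinite
    exact exists_sep_point_of_perfect k C
  · haveI : Infinite k := not_finite_iff_infinite.mp hfin
    obtain ⟨p, hp⟩ := Ideal.exists_maximal C
    haveI := hp.isPrime
    haveI : Algebra.FormallySmooth C (Localization.AtPrime p) :=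
      Algebra.FormallySmooth.of_isLocalization p.primeCompl
    haveI : Algebra.IsSmoothAt k p := Algebra.FormallySmooth.comp k C (Localization.AtPrime p)
    obtain ⟨f, hfp, n, alg, tower, hse⟩ :=
      Algebra.IsSmoothAt.exists_isStandardEtale_mvPolynomial (R := k) (p := p)
    haveI : Algebra.Etale (MvPolynomial (Fin n) k) (Localization.Away f) := inferInstance
    haveI : Module.Flat (MvPolynomial (Fin n) k) (Localization.Away f) := inferInstance
    haveI : Algebra.FinitePresentation (MvPolynomial (Fin n) k) (Localization.Away f) :=
      inferInstance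
    haveI : Nontrivial (Localization.Away f) := by
      rw [← not_subsingleton_iff_nontrivial,
        IsLocalization.subsingleton_iff (M := Submonoid.powers f)]
      rintro ⟨m, hm⟩
      exact hfp (hp.isPrime.mem_of_pow_mem m (by rw [show f ^ m = 0 from hm]; exact p.zero_mem))
    have hopen : IsOpen (Set.range (PrimeSpectrum.comap
        (algebraMap (MvPolynomial (Fin n) k) (Localization.Away f)))) :=
      (PrimeSpectrum.isOpenMap_comap_of_hasGoingDown_of_finitePresentation).isOpen_range
    obtain ⟨Q₀⟩ : Nonempty (PrimeSpectrum (Localization.Away f)) := inferInstance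
    obtain ⟨_, ⟨_, ⟨c, rfl⟩, rfl⟩, hyc, hcsub⟩ :=
      PrimeSpectrum.isBasis_basic_opens.exists_subset_of_mem_open (Set.mem_range_self Q₀) hopen
    have hc0 : c ≠ 0 := by
      rintro rfl
      simp at hyc
    obtain ⟨a, ha⟩ : ∃ a : Fin n → k, MvPolynomial.eval a c ≠ 0 := by
      by_contra hcon
      push_neg at hcon
      exact hc0 (MvPolynomial.funext (fun x => by simpa using hcon x))
    let ev : MvPolynomial (Fin n) k →ₐ[k] k := MvPolynomial.aeval a
    let y : PrimeSpectrum (MvPolynomial (Fin n) k) :=
      ⟨RingHom.ker ev.toRingHom, RingHom.ker_isPrime _⟩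
    have hy : y ∈ (PrimeSpectrum.basicOpen c : Set (PrimeSpectrum (MvPolynomial (Fin n) k))) := by
      change c ∉ RingHom.ker ev.toRingHom
      rw [RingHom.mem_ker]
      exact ha
    obtain ⟨Q, hQ⟩ := hcsub hy
    obtain ⟨M', hM', hQM⟩ := Ideal.exists_le_maximal Q.asIdeal Q.2.ne_top
    letI : Field (Localization.Away f ⧸ M') := Ideal.Quotient.field M'
    haveI : Algebra.FormallyUnramified (MvPolynomial (Fin n) k) (Localization.Away f ⧸ M') :=
      Algebra.FormallyUnramified.of_surjective (Ideal.Quotient.mkₐ (MvPolynomial (Fin n) k) M')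
        (Ideal.Quotient.mkₐ_surjective _ _)
    haveI : Algebra.FiniteType k (Localization.Away f) :=
      Algebra.FiniteType.trans (S := MvPolynomial (Fin n) k) inferInstance inferInstance
    haveI : Algebra.FiniteType k (Localization.Away f ⧸ M') :=
      Algebra.FiniteType.of_surjective (Ideal.Quotient.mkₐ k M')
        (Ideal.Quotient.mkₐ_surjective _ _)
    have hXi : ∀ i, algebraMap (MvPolynomial (Fin n) k) (Localization.Away f ⧸ M')
        (MvPolynomial.X i) = algebraMap k (Localization.Away f ⧸ M') (a i) := by
      intro i
      have h1 : (MvPolynomial.X i - MvPolynomial.C (a i) : MvPolynomial (Fin n) k) ∈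
          RingHom.ker ev.toRingHom := by
        simp [RingHom.mem_ker, ev]
      have h2 : algebraMap (MvPolynomial (Fin n) k) (Localization.Away f)
          (MvPolynomial.X i - MvPolynomial.C (a i)) ∈ M' := by
        apply hQM
        have : (MvPolynomial.X i - MvPolynomial.C (a i) : MvPolynomial (Fin n) k) ∈
            (PrimeSpectrum.comap (algebraMap (MvPolynomial (Fin n) k) (Localization.Away f))
              Q).asIdeal := by
          rw [hQ]
          exact h1
        exact this
      have h3 : algebraMap (MvPolynomial (Fin n) k) (Localization.Away f ⧸ M')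
          (MvPolynomial.X i - MvPolynomial.C (a i)) = 0 := by
        rw [IsScalarTower.algebraMap_apply (MvPolynomial (Fin n) k) (Localization.Away f)
          (Localization.Away f ⧸ M')]
        exact Ideal.Quotient.eq_zero_iff_mem.mpr h2
      rw [map_sub, sub_eq_zero] at h3
      rw [h3, ← MvPolynomial.algebraMap_eq, ← IsScalarTower.algebraMap_apply]
    obtain ⟨h1, h2⟩ := finite_separable_of_unramified (Localization.Away f ⧸ M') a hXi
    exact ⟨Localization.Away f ⧸ M', inferInstance, inferInstance, h1, h2,
      ⟨(Ideal.Quotient.mkₐ k M').comp (IsScalarTower.toAlgHom k C (Localization.Away f))⟩⟩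

end Groth.Agent.H8.ESS
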