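import Mathlib
import Groth.Agent.Lib.Helper8.ESS.SP
import Groth.Agent.Lib.Helper8.ESS.RF

/-! Smooth algebras have sections étale locally (pointwise version). -/

universe u
set_option linter.style.haveILetI false
open TensorProduct

namespace Groth.Agent.H8.ESS

/-- **(ESS-pt)**: `C` smooth over `R`, `p` a prime of `R` over which the fibre of `C` is nonempty.
Then there are an étale `R`-algebra `R'` with a prime over `p` and an `R`-algebra map `C → R'`. -/
theorem exists_etale_section_at {R : Type u} [CommRing R] (C : Type u) [CommRing C] [Algebra R C]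
    [Algebra.Smooth R C] (p : Ideal R) [p.IsPrime] [Nontrivial (p.ResidueField ⊗[R] C)] :
    ∃ (R' : Type u) (_ : CommRing R') (_ : Algebra R R'), Algebra.Etale R R' ∧
      (∃ P' : Ideal R', P'.IsPrime ∧ P'.comap (algebraMap R R') = p) ∧
      Nonempty (C →ₐ[R] R') := by
  -- Step 1: a separable point of the fibre
  obtain ⟨κ', _, _, hfin, hsep, ⟨ρκ⟩⟩ :=
    exists_sep_point p.ResidueField (p.ResidueField ⊗[R] C)
  letI : Algebra R κ' :=
    ((algebraMap p.ResidueField κ').comp (algebraMap R p.ResidueField)).toAlgebra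
  haveI : IsScalarTower R p.ResidueField κ' := IsScalarTower.of_algebraMap_eq' rfl
  let ρ : C →ₐ[R] κ' := (ρκ.restrictScalars R).comp Algebra.TensorProduct.includeRight
  have hRκ' : ∀ r : R, algebraMap R κ' r = 0 ↔ r ∈ p := by
    intro r
    rw [IsScalarTower.algebraMap_apply R p.ResidueField κ', map_eq_zero_iff _
      (algebraMap p.ResidueField κ').injective, Ideal.algebraMap_residueField_eq_zero]
  -- Step 2: standard étale structure at the kernel
  haveI hq' : (RingHom.ker ρ.toRingHom).IsPrime := RingHom.ker_isPrime _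
  haveI : Algebra.FormallySmooth C (Localization.AtPrime (RingHom.ker ρ.toRingHom)) :=
    Algebra.FormallySmooth.of_isLocalization (RingHom.ker ρ.toRingHom).primeCompl
  haveI : Algebra.IsSmoothAt R (RingHom.ker ρ.toRingHom) :=
    Algebra.FormallySmooth.comp R C (Localization.AtPrime (RingHom.ker ρ.toRingHom))
  obtain ⟨f, hfq, n, alg, tower, hse⟩ :=
    Algebra.IsSmoothAt.exists_isStandardEtale_mvPolynomial (R := R)
      (p := RingHom.ker ρ.toRingHom)
  haveI : Algebra.Etale (MvPolynomial (Fin n) R) (Localization.Away f) := inferInstance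
  have hρf : ∀ y : Submonoid.powers f, IsUnit (ρ y) := by
    rintro ⟨_, m, rfl⟩
    rw [map_pow]
    refine IsUnit.pow m (isUnit_iff_ne_zero.mpr ?_)
    intro h0
    exact hfq (by rw [RingHom.mem_ker]; exact h0)
  let ρD : Localization.Away f →ₐ[R] κ' := IsLocalization.liftAlgHom (M := Submonoid.powers f) hρf
  -- Step 3: the étale neighbourhood realising the residue field extension
  obtain ⟨R₁, _, _, hR₁, β, hβ⟩ := exists_etale_residue_ext p κ'
    (fun i : Fin n => ρD (algebraMap (MvPolynomial (Fin n) R) (Localization.Away f)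
      (MvPolynomial.X i)))
  choose a ha using hβ
  letI : Algebra (MvPolynomial (Fin n) R) R₁ := (MvPolynomial.aeval a).toRingHom.toAlgebra
  haveI : IsScalarTower R (MvPolynomial (Fin n) R) R₁ := IsScalarTower.of_algebraMap_eq' (by
    ext r
    change algebraMap R R₁ r = MvPolynomial.aeval a (algebraMap R (MvPolynomial (Fin n) R) r)
    rw [AlgHom.commutes])
  -- Step 4: base change
  haveI : Algebra.Etale R₁ (R₁ ⊗[MvPolynomial (Fin n) R] Localization.Away f) := inferInstance
  letI algR : Algebra R (R₁ ⊗[MvPolynomial (Fin n) R] Localization.Away f) := inferInstance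
  haveI : IsScalarTower R R₁ (R₁ ⊗[MvPolynomial (Fin n) R] Localization.Away f) := inferInstance
  haveI : Algebra.Etale R (R₁ ⊗[MvPolynomial (Fin n) R] Localization.Away f) :=
    Algebra.Etale.comp R R₁ _
  -- the map to κ'
  letI : Algebra (MvPolynomial (Fin n) R) κ' :=
    (ρD.toRingHom.comp (algebraMap (MvPolynomial (Fin n) R) (Localization.Away f))).toAlgebra
  let ρ' : Localization.Away f →ₐ[MvPolynomial (Fin n) R] κ' :=
    { ρD.toRingHom with commutes' := fun x => rfl }
  have hagree : (β.comp (MvPolynomial.aeval a)) =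
      (ρD.comp (IsScalarTower.toAlgHom R (MvPolynomial (Fin n) R) (Localization.Away f))) := by
    apply MvPolynomial.algHom_ext
    intro i
    rw [AlgHom.comp_apply, MvPolynomial.aeval_X]
    exact ha i
  let β' : R₁ →ₐ[MvPolynomial (Fin n) R] κ' :=
    { β.toRingHom with commutes' := fun x => DFunLike.congr_fun hagree x }
  let χ : R₁ ⊗[MvPolynomial (Fin n) R] Localization.Away f →ₐ[MvPolynomial (Fin n) R] κ' :=
    Algebra.TensorProduct.lift β' ρ' (fun _ _ => Commute.all _ _)
  refine ⟨R₁ ⊗[MvPolynomial (Fin n) R] Localization.Away f, inferInstance, algR, inferInstance,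
    ⟨RingHom.ker χ.toRingHom, RingHom.ker_isPrime _, ?_⟩, ⟨?_⟩⟩
  · ext r
    rw [Ideal.mem_comap, RingHom.mem_ker, ← hRκ' r]
    have : χ.toRingHom (algebraMap R (R₁ ⊗[MvPolynomial (Fin n) R] Localization.Away f) r) =
        algebraMap R κ' r := by
      change χ ((algebraMap R R₁ r) ⊗ₜ[MvPolynomial (Fin n) R] (1 : Localization.Away f)) = _
      rw [Algebra.TensorProduct.lift_tmul, map_one, mul_one]
      exact β.commutes r
    rw [this]
  · refine
      { toRingHom := (Algebra.TensorProduct.includeRight :
            Localization.Away f →ₐ[MvPolynomial (Fin n) R] _).toRingHom.comp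
            (algebraMap C (Localization.Away f))
        commutes' := ?_ }
    intro r
    change (1 : R₁) ⊗ₜ[MvPolynomial (Fin n) R] (algebraMap C (Localization.Away f)
      (algebraMap R C r)) = (algebraMap R R₁ r) ⊗ₜ[MvPolynomial (Fin n) R] 1
    rw [← IsScalarTower.algebraMap_apply R C (Localization.Away f),
      IsScalarTower.algebraMap_apply R (MvPolynomial (Fin n) R) (Localization.Away f),
      IsScalarTower.algebraMap_apply R (MvPolynomial (Fin n) R) R₁,
      Algebra.algebraMap_eq_smul_one (A := Localization.Away f),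
      Algebra.algebraMap_eq_smul_one (A := R₁), TensorProduct.smul_tmul]

end Groth.Agent.H8.ESS
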