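import Mathlib
import Groth.Agent.Lib.Helper8.ESS.Pt

/-! Smooth surjective morphisms of schemes have sections étale locally (EGA IV 17.16.3). -/

universe u
set_option linter.style.haveILetI false
open CategoryTheory AlgebraicGeometry Limits TensorProduct

namespace Groth.Agent.H8.ESS

/-- a smooth morphism has a section over an étale neighbourhood of the image of any point -/
theorem exists_etale_nbhd_section {X Y : Scheme.{u}} (f : Y ⟶ X) [Smooth f] (y : Y) :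
    ∃ (U : Scheme.{u}) (g : U ⟶ X) (s : U ⟶ Y), Etale g ∧ s ≫ f = g ∧ f y ∈ Set.range g := by
  obtain ⟨W, hW, hxW, -⟩ :=
    exists_isAffineOpen_mem_and_subset (X := X) (x := f y) (U := ⊤) trivial
  have hyW : y ∈ f ⁻¹ᵁ W := hxW
  obtain ⟨V, hV, hyV, hVW⟩ :=
    exists_isAffineOpen_mem_and_subset (X := Y) (x := y) (U := f ⁻¹ᵁ W) hyW
  have hVW' : V ≤ f ⁻¹ᵁ W := hVW
  have hsm : (f.appLE W V hVW').hom.Smooth :=
    HasRingHomProperty.appLE (P := @Smooth) f inferInstance ⟨W, hW⟩ ⟨V, hV⟩ hVW'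
  letI : Algebra Γ(X, W) Γ(Y, V) := (f.appLE W V hVW').hom.toAlgebra
  haveI : Algebra.Smooth Γ(X, W) Γ(Y, V) := hsm
  have hcomap := IsAffineOpen.comap_primeIdealOf_appLE (f := f) W hW V hV hVW' hyV
  haveI : Nontrivial ((hW.primeIdealOf ⟨f y, hVW' hyV⟩).asIdeal.ResidueField ⊗[Γ(X, W)] Γ(Y, V)) :=
    (PrimeSpectrum.nontrivial_iff_mem_rangeComap (hW.primeIdealOf ⟨f y, hVW' hyV⟩)).mpr
      ⟨hV.primeIdealOf ⟨y, hyV⟩, hcomap⟩
  obtain ⟨R', _, _, het, ⟨P', hP', hP'p⟩, ⟨ψ⟩⟩ :=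
    exists_etale_section_at Γ(Y, V) (hW.primeIdealOf ⟨f y, hVW' hyV⟩).asIdeal
  refine ⟨Spec (CommRingCat.of R'),
    Spec.map (CommRingCat.ofHom (algebraMap Γ(X, W) R')) ≫ hW.fromSpec,
    Spec.map (CommRingCat.ofHom ψ.toRingHom) ≫ hV.fromSpec, ?_, ?_, ?_⟩
  · haveI : Etale (Spec.map (CommRingCat.ofHom (algebraMap Γ(X, W) R'))) := by
      rw [HasRingHomProperty.Spec_iff (P := @Etale)]
      exact RingHom.etale_algebraMap.mpr het
    infer_instance
  · rw [Category.assoc, ← IsAffineOpen.SpecMap_appLE_fromSpec f hW hV hVW',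
      ← Spec.map_comp_assoc]
    congr 2
    ext r
    exact ψ.commutes r
  · refine ⟨(⟨P', hP'⟩ : PrimeSpectrum R'), ?_⟩
    rw [Scheme.Hom.comp_apply]
    have : (Spec.map (CommRingCat.ofHom (algebraMap Γ(X, W) R'))) ⟨P', hP'⟩ =
        hW.primeIdealOf ⟨f y, hVW' hyV⟩ := PrimeSpectrum.ext hP'p
    rw [this, IsAffineOpen.fromSpec_primeIdealOf]

/-- **EGA IV 17.16.3 (ii)**: a smooth surjective morphism has sections over an étale covering. -/
theorem exists_etale_cover_section {X Y : Scheme.{u}} (f : Y ⟶ X) [Smooth f] [Surjective f] :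
    ∃ R ∈ Scheme.etalePrecoverage X,
      ∀ ⦃U : Scheme.{u}⦄ (g : U ⟶ X), R g → ∃ s : U ⟶ Y, s ≫ f = g := by
  have key : ∀ x : X, ∃ (U : Scheme.{u}) (g : U ⟶ X) (s : U ⟶ Y),
      Etale g ∧ s ≫ f = g ∧ x ∈ Set.range g := by
    intro x
    obtain ⟨y, rfl⟩ := f.surjective x
    exact exists_etale_nbhd_section f y
  choose U g s hg hs hx using key
  refine ⟨Presieve.ofArrows U g, ?_, ?_⟩
  · change Presieve.ofArrows U g ∈ Scheme.precoverage @Etale X
    rw [Scheme.ofArrows_mem_precoverage_iff]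
    exact ⟨fun x => ⟨x, hx x⟩, hg⟩
  · rintro U' g' ⟨x⟩
    exact ⟨s x, hs x⟩

end Groth.Agent.H8.ESS
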