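import Mathlib
import Groth.Agent.Lib.Helper8.ESS.Pt

/-! Smooth surjective algebras have sections after an étale faithfully flat extension. -/

universe u
set_option linter.style.haveILetI false
open TensorProduct

namespace Groth.Agent.H8.ESS

/-- **(ESS)**: `C` smooth over `R` with `Spec C → Spec R` surjective. Then there are an étale
faithfully flat `R`-algebra `R'` and an `R`-algebra map `C → R'`. -/
theorem exists_etale_faithfullyFlat_section {R : Type u} [CommRing R] (C : Type u) [CommRing C]
    [Algebra R C] [Algebra.Smooth R C]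
    (hsurj : Function.Surjective (PrimeSpectrum.comap (algebraMap R C))) :
    ∃ (R' : Type u) (_ : CommRing R') (_ : Algebra R R'), Algebra.Etale R R' ∧
      Module.FaithfullyFlat R R' ∧ Nonempty (C →ₐ[R] R') := by
  classical
  have key : ∀ x : PrimeSpectrum R, ∃ (R' : Type u) (_ : CommRing R') (_ : Algebra R R'),
      Algebra.Etale R R' ∧
      (∃ P' : Ideal R', P'.IsPrime ∧ P'.comap (algebraMap R R') = x.asIdeal) ∧
      Nonempty (C →ₐ[R] R') := by
    intro x
    haveI : Nontrivial (x.asIdeal.ResidueField ⊗[R] C) :=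
      (PrimeSpectrum.nontrivial_iff_mem_rangeComap x).mpr (hsurj x)
    exact exists_etale_section_at C x.asIdeal
  choose A instR instA hA hP hφ using key
  letI : ∀ x, CommRing (A x) := instR
  letI : ∀ x, Algebra R (A x) := instA
  let U : PrimeSpectrum R → Set (PrimeSpectrum R) :=
    fun x => Set.range (PrimeSpectrum.comap (algebraMap R (A x)))
  have hUo : ∀ x, IsOpen (U x) := fun x => by
    haveI := hA x
    exact (PrimeSpectrum.isOpenMap_comap_of_hasGoingDown_of_finitePresentation).isOpen_range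
  have hxU : ∀ x, x ∈ U x := fun x => by
    obtain ⟨P', hP', hc⟩ := hP x
    exact ⟨⟨P', hP'⟩, PrimeSpectrum.ext hc⟩
  obtain ⟨t, ht⟩ := isCompact_univ.elim_finite_subcover U hUo
    (fun x _ => Set.mem_iUnion.mpr ⟨x, hxU x⟩)
  haveI : ∀ i : {x // x ∈ t}, Algebra.Etale R (A i.1) := fun i => hA i.1
  haveI : Algebra.Etale R (Π i : {x // x ∈ t}, A i.1) := inferInstance
  haveI : Module.Flat R (Π i : {x // x ∈ t}, A i.1) := inferInstance
  refine ⟨Π i : {x // x ∈ t}, A i.1, inferInstance, inferInstance, inferInstance, ?_, ?_⟩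
  · apply Module.FaithfullyFlat.of_comap_surjective
    intro y
    obtain ⟨x, hx⟩ := Set.mem_iUnion.mp (ht (Set.mem_univ y))
    obtain ⟨hxt, Q, hQ⟩ := Set.mem_iUnion.mp hx
    refine ⟨PrimeSpectrum.comap (Pi.evalRingHom (fun i : {x // x ∈ t} => A i.1) ⟨x, hxt⟩) Q, ?_⟩
    rw [← hQ]
    rfl
  · exact ⟨AlgHom.pi (fun i => (hφ i.1).some)⟩

end Groth.Agent.H8.ESS
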