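import Mathlib
import Groth.Agent.Lib.Helper8.ESS.Pt
import Groth.Agent.Lib.Helper8.PairHens.ZMT

/-! Smooth algebras over a henselian local ring with nonempty closed fibre have sections over a
finite étale (surjective) extension. -/

universe u
set_option linter.style.haveILetI false
open TensorProduct

namespace Groth.Agent.H8.ESS

/-- the quotient of an étale algebra over a local ring by the maximal ideal is finite -/
theorem finite_quotient_of_etale (A : Type u) [CommRing A] [IsLocalRing A] (R₂ : Type u)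
    [CommRing R₂] [Algebra A R₂] [Algebra.Etale A R₂] :
    Module.Finite A (R₂ ⧸ (IsLocalRing.maximalIdeal A).map (algebraMap A R₂)) := by
  letI : Field (A ⧸ IsLocalRing.maximalIdeal A) := Ideal.Quotient.field _
  haveI h1 : Algebra.FormallyUnramified A
      (R₂ ⧸ (IsLocalRing.maximalIdeal A).map (algebraMap A R₂)) :=
    Algebra.FormallyUnramified.of_surjective (Ideal.Quotient.mkₐ A _)
      (Ideal.Quotient.mkₐ_surjective A _)
  haveI h2 : Algebra.FormallyUnramified (A ⧸ IsLocalRing.maximalIdeal A)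
      (R₂ ⧸ (IsLocalRing.maximalIdeal A).map (algebraMap A R₂)) :=
    Algebra.FormallyUnramified.of_restrictScalars A _ _
  haveI h3 : Algebra.FiniteType A (R₂ ⧸ (IsLocalRing.maximalIdeal A).map (algebraMap A R₂)) :=
    Algebra.FiniteType.of_surjective (Ideal.Quotient.mkₐ A _)
      (Ideal.Quotient.mkₐ_surjective A _)
  haveI h4 : Algebra.FiniteType (A ⧸ IsLocalRing.maximalIdeal A)
      (R₂ ⧸ (IsLocalRing.maximalIdeal A).map (algebraMap A R₂)) :=
    Algebra.FiniteType.of_restrictScalars_finiteType A _ _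
  haveI h5 : Module.Finite (A ⧸ IsLocalRing.maximalIdeal A)
      (R₂ ⧸ (IsLocalRing.maximalIdeal A).map (algebraMap A R₂)) :=
    Algebra.FormallyUnramified.finite_of_free _ _
  exact Module.Finite.trans (A ⧸ IsLocalRing.maximalIdeal A) _

/-- **(HENS)** `C` smooth over a henselian local ring `A` with nonempty closed fibre: there is a
finite étale `A`-algebra `A'` with `Spec A' → Spec A` surjective and an `A`-map `C → A'`. -/
theorem exists_finite_etale_section (A : Type u) [CommRing A] [HenselianLocalRing A]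
    (C : Type u) [CommRing C] [Algebra A C] [Algebra.Smooth A C]
    [Nontrivial ((IsLocalRing.maximalIdeal A).ResidueField ⊗[A] C)] :
    ∃ (A' : Type u) (_ : CommRing A') (_ : Algebra A A'), Module.Finite A A' ∧
      Algebra.Etale A A' ∧ Function.Surjective (PrimeSpectrum.comap (algebraMap A A')) ∧
      Nonempty (C →ₐ[A] A') := by
  obtain ⟨R₂, _, _, hEt, ⟨P₂, hP₂, hP₂m⟩, ⟨ψ⟩⟩ :=
    exists_etale_section_at C (IsLocalRing.maximalIdeal A)
  haveI := hEt
  haveI : Algebra.FiniteType A R₂ := inferInstance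
  haveI hfinq := finite_quotient_of_etale A R₂
  obtain ⟨e, he, he1, hfin⟩ :=
    Groth.Agent.H8.PairHens.ZMT.exists_idempotent_finite A (IsLocalRing.maximalIdeal A) R₂
  haveI := hfin
  have hker : RingHom.ker (algebraMap R₂ (R₂ ⧸ Ideal.span {1 - e})) = Ideal.span {1 - e} :=
    Ideal.mk_ker
  haveI : IsLocalization.Away e (R₂ ⧸ Ideal.span {1 - e}) :=
    IsLocalization.away_of_isIdempotentElem he hker Ideal.Quotient.mk_surjective
  haveI : Algebra.Etale R₂ (R₂ ⧸ Ideal.span {1 - e}) := Algebra.Etale.of_isLocalizationAway e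
  haveI hEt' : Algebra.Etale A (R₂ ⧸ Ideal.span {1 - e}) := Algebra.Etale.comp A R₂ _
  -- the prime over the maximal ideal
  haveI := hP₂
  have hle : Ideal.span {1 - e} ≤ P₂ := by
    rw [Ideal.span_le, Set.singleton_subset_iff]
    have : (IsLocalRing.maximalIdeal A).map (algebraMap A R₂) ≤ P₂ := by
      rw [Ideal.map_le_iff_le_comap, hP₂m]
    exact this he1
  have hP' : (P₂.map (Ideal.Quotient.mk (Ideal.span {1 - e}))).IsPrime :=
    Ideal.map_isPrime_of_surjective Ideal.Quotient.mk_surjective (by rwa [Ideal.mk_ker])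
  have hP'c : (P₂.map (Ideal.Quotient.mk (Ideal.span {1 - e}))).comap
      (algebraMap A (R₂ ⧸ Ideal.span {1 - e})) = IsLocalRing.maximalIdeal A := by
    rw [IsScalarTower.algebraMap_eq A R₂ (R₂ ⧸ Ideal.span {1 - e}), ← Ideal.comap_comap]
    have : Ideal.comap (algebraMap R₂ (R₂ ⧸ Ideal.span {1 - e}))
        (P₂.map (Ideal.Quotient.mk (Ideal.span {1 - e}))) = P₂ := by
      change Ideal.comap (Ideal.Quotient.mk (Ideal.span {1 - e})) _ = P₂
      rw [Ideal.comap_map_of_surjective _ Ideal.Quotient.mk_surjective, ← RingHom.ker_eq_comap_bot,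
        Ideal.mk_ker]
      exact sup_eq_left.mpr hle
    rw [this, hP₂m]
  refine ⟨R₂ ⧸ Ideal.span {1 - e}, inferInstance, inferInstance, hfin, hEt', ?_,
    ⟨(Ideal.Quotient.mkₐ A (Ideal.span {1 - e})).comp ψ⟩⟩
  rintro ⟨p, hp⟩
  haveI := hp
  haveI := hP'
  have hpm : p ≤ IsLocalRing.maximalIdeal A := IsLocalRing.le_maximalIdeal hp.ne_top
  haveI : (P₂.map (Ideal.Quotient.mk (Ideal.span {1 - e}))).LiesOver
      (IsLocalRing.maximalIdeal A) := ⟨hP'c.symm⟩
  obtain ⟨Q, _, hQ, hQo⟩ := Ideal.exists_ideal_le_liesOver_of_le (p := p)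
    (q := IsLocalRing.maximalIdeal A) (P₂.map (Ideal.Quotient.mk (Ideal.span {1 - e}))) hpm
  exact ⟨⟨Q, hQ⟩, PrimeSpectrum.ext hQo.over.symm⟩

end Groth.Agent.H8.ESS
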