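import Mathlib
import Groth.Prelude.Def_RedSub
import Groth.Agent.Lib.Helper8.ESS.Hens
import Groth.Agent.Lib.Helper5.Descent.AffineHomDescent

/-! Torsors under smooth affine groups over a henselian local ring are isotrivial: scheme part. -/

universe u
set_option linter.style.haveILetI false
open CategoryTheory MonoidalCategory CartesianMonoidalCategory MonObj GrpObj AlgebraicGeometry Limits
open TensorProduct

namespace Groth.Agent.H8.ESS

/-- fppf-local properties of the group pass to a (representable fppf) torsor. -/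
theorem hom_prop_of_isTorsor {S : Scheme.{u}} {G P : Over S} [GrpObj G] (a : AlgGrp.Action G P)
    (ha : RedSub.IsTorsor a) (Pr : MorphismProperty Scheme.{u}) [Pr.IsStableUnderBaseChange]
    [Pr.DescendsAlong (@Surjective ⊓ @Flat ⊓ @LocallyOfFinitePresentation)] (hG : Pr G.hom) :
    Pr P.hom := by
  obtain ⟨h1, h2, h3, h4⟩ := ha
  haveI := h4
  haveI : IsIso (lift a.act (snd G P)).left := (Over.forget S).map_isIso (lift a.act (snd G P))
  have hsnd : (lift a.act (snd G P)).left ≫ pullback.snd P.hom P.hom =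
      pullback.snd G.hom P.hom := by
    rw [← Over.snd_left, ← Over.comp_left, lift_snd, Over.snd_left]
  have hpb : IsPullback ((lift a.act (snd G P)).left ≫ pullback.snd P.hom P.hom)
      ((lift a.act (snd G P)).left ≫ pullback.fst P.hom P.hom) P.hom P.hom :=
    IsPullback.of_iso (IsPullback.of_hasPullback P.hom P.hom).flip
      (asIso (lift a.act (snd G P)).left).symm (Iso.refl _) (Iso.refl _) (Iso.refl _)
      (by simp) (by simp) (by simp) (by simp)
  refine MorphismProperty.of_isPullback_of_descendsAlong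
    (Q := (@Surjective ⊓ @Flat ⊓ @LocallyOfFinitePresentation : MorphismProperty Scheme.{u}))
    hpb ⟨⟨h1, h2⟩, h3⟩ ?_
  rw [hsnd]
  exact Pr.pullback_snd _ _ hG

/-- scheme form of (HENS) -/
theorem exists_finite_etale_section_scheme (A : Type u) [CommRing A] [HenselianLocalRing A]
    {Y : Scheme.{u}} (f : Y ⟶ Spec (CommRingCat.of A)) [IsAffineHom f] [Smooth f] [Surjective f] :
    ∃ (A' : Type u) (_ : CommRing A') (_ : Algebra A A'), Module.Finite A A' ∧
      Algebra.Etale A A' ∧ Function.Surjective (PrimeSpectrum.comap (algebraMap A A')) ∧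
      ∃ s : Spec (CommRingCat.of A') ⟶ Y,
        s ≫ f = Spec.map (CommRingCat.ofHom (algebraMap A A')) := by
  haveI : IsAffine Y := isAffine_of_isAffineHom f
  obtain ⟨φ, hφ⟩ : ∃ φ : CommRingCat.of A ⟶ Γ(Y, ⊤), Spec.map φ = Y.isoSpec.inv ≫ f :=
    ⟨Spec.preimage _, Spec.map_preimage _⟩
  have hsm : φ.hom.Smooth := (HasRingHomProperty.Spec_iff (P := @Smooth)).mp (by
    rw [hφ]; infer_instance)
  have hsurj : Function.Surjective (PrimeSpectrum.comap φ.hom) := by
    have : Surjective (Spec.map φ) := by rw [hφ]; infer_instance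
    intro x
    obtain ⟨y, hy⟩ := this.surj x
    exact ⟨y, hy⟩
  letI : Algebra A Γ(Y, ⊤) := φ.hom.toAlgebra
  haveI : Algebra.Smooth A Γ(Y, ⊤) := hsm
  haveI : Nontrivial ((IsLocalRing.maximalIdeal A).ResidueField ⊗[A] Γ(Y, ⊤)) :=
    (PrimeSpectrum.nontrivial_iff_mem_rangeComap
      (⟨IsLocalRing.maximalIdeal A, inferInstance⟩ : PrimeSpectrum A)).mpr (hsurj _)
  obtain ⟨A', _, _, hfin, het, hsurj', ⟨ψ⟩⟩ := exists_finite_etale_section A Γ(Y, ⊤)
  refine ⟨A', inferInstance, inferInstance, hfin, het, hsurj',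
    Spec.map (CommRingCat.ofHom ψ.toRingHom) ≫ Y.isoSpec.inv, ?_⟩
  rw [Category.assoc, ← hφ, ← Spec.map_comp]
  congr 1
  ext r
  exact ψ.commutes r

/-- Torsors under smooth affine groups over a henselian local ring are isotrivial. -/
theorem isotrivial_henselian (A : Type u) [CommRing A] [HenselianLocalRing A]
    {G P : Over (Spec (CommRingCat.of A))} [GrpObj G] [Smooth G.hom] [IsAffineHom G.hom]
    (a : AlgGrp.Action G P) (ha : RedSub.IsTorsor a) :
    ∃ (S' : Scheme.{u}) (f : S' ⟶ Spec (CommRingCat.of A)), IsFinite f ∧ Etale f ∧ Surjective f ∧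
      RedSub.HasSection (Red.bc f P) := by
  haveI h1 : IsAffineHom P.hom := hom_prop_of_isTorsor a ha @IsAffineHom inferInstance
  haveI h2 : Smooth P.hom := hom_prop_of_isTorsor a ha @Smooth inferInstance
  haveI h3 : Surjective P.hom := ha.1
  obtain ⟨A', _, _, hfin, het, hsurj, s, hs⟩ := exists_finite_etale_section_scheme A P.hom
  refine ⟨Spec (CommRingCat.of A'), Spec.map (CommRingCat.ofHom (algebraMap A A')), ?_, ?_, ?_, ?_⟩
  · rw [IsFinite.SpecMap_iff]
    exact RingHom.finite_algebraMap.mpr hfin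
  · rw [HasRingHomProperty.Spec_iff (P := @Etale)]
    exact RingHom.etale_algebraMap.mpr het
  · exact ⟨hsurj⟩
  · exact ⟨Over.homMk (pullback.lift s (𝟙 _) (by rw [hs, Category.id_comp])) (by
      exact pullback.lift_snd _ _ _)⟩

end Groth.Agent.H8.ESS
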