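import Mathlib
import Groth.Agent.Lib.Helper8.ESS.Global

/-! Smooth affine surjective schemes over `Spec R⟦X⟧` have sections over `Spec R'⟦X⟧` for some
étale faithfully flat `R → R'`. -/

universe u
set_option linter.style.haveILetI false
open CategoryTheory Limits AlgebraicGeometry PowerSeries

namespace Groth.Agent.H8.ESS

/-- **(LIFT)** -/
theorem exists_lift_powerSeries {R R' : Type u} [CommRing R] [CommRing R'] [Algebra R R']
    {C : Type u} [CommRing C] (φ : R⟦X⟧ →+* C) (hφ : φ.Smooth) (ρ₀ : C →+* R')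
    (h : ρ₀.comp φ = (algebraMap R R').comp (constantCoeff (R := R))) :
    ∃ g : C →+* R'⟦X⟧, g.comp φ = PowerSeries.map (algebraMap R R') := by
  letI : Algebra R⟦X⟧ C := φ.toAlgebra
  haveI : Algebra.Smooth R⟦X⟧ C := hφ
  letI : Algebra R⟦X⟧ R'⟦X⟧ := (PowerSeries.map (algebraMap R R')).toAlgebra
  let f : C →ₐ[R⟦X⟧] R'⟦X⟧ ⧸ (Ideal.span {(X : R'⟦X⟧)}) :=
    { toRingHom := (Ideal.Quotient.mk _).comp ((PowerSeries.C (R := R')).comp ρ₀)
      commutes' := by
        intro l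
        change Ideal.Quotient.mk _ (PowerSeries.C (ρ₀ (φ l))) =
          Ideal.Quotient.mk _ (PowerSeries.map (algebraMap R R') l)
        have h1 : ρ₀ (φ l) = algebraMap R R' (constantCoeff l) := RingHom.congr_fun h l
        rw [h1, Ideal.Quotient.eq, Ideal.mem_span_singleton, PowerSeries.X_dvd_iff, map_sub,
          sub_eq_zero, constantCoeff_C, ← coeff_zero_eq_constantCoeff_apply,
          ← coeff_zero_eq_constantCoeff_apply, coeff_map] }
  obtain ⟨g, -⟩ := Algebra.FormallySmooth.exists_mkₐ_comp_eq_of_isAdicComplete f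
  exact ⟨g.toRingHom, by ext1 l; exact g.commutes l⟩

/-- scheme-level consequence -/
theorem exists_section_powerSeries (R : Type u) [CommRing R] {Y : Scheme.{u}}
    (f : Y ⟶ Spec (CommRingCat.of R⟦X⟧)) [IsAffineHom f] [Smooth f] [Surjective f] :
    ∃ (R' : Type u) (_ : CommRing R') (_ : Algebra R R'), Algebra.Etale R R' ∧
      Module.FaithfullyFlat R R' ∧ ∃ s : Spec (CommRingCat.of R'⟦X⟧) ⟶ Y,
        s ≫ f = Spec.map (CommRingCat.ofHom (PowerSeries.map (algebraMap R R'))) := by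
  haveI : IsAffine Y := isAffine_of_isAffineHom f
  let ε : CommRingCat.of R⟦X⟧ ⟶ CommRingCat.of R :=
    CommRingCat.ofHom (constantCoeff (R := R))
  haveI : IsAffine (pullback f (Spec.map ε)) :=
    isAffine_of_isAffineHom (pullback.snd f (Spec.map ε))
  obtain ⟨φ₀, hφ₀⟩ : ∃ φ₀ : CommRingCat.of R ⟶ Γ(pullback f (Spec.map ε), ⊤),
      Spec.map φ₀ = (pullback f (Spec.map ε)).isoSpec.inv ≫ pullback.snd f (Spec.map ε) :=
    ⟨Spec.preimage _, Spec.map_preimage _⟩
  have hsm₀ : φ₀.hom.Smooth := (HasRingHomProperty.Spec_iff (P := @Smooth)).mp (by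
    rw [hφ₀]; infer_instance)
  have hsurj₀ : Function.Surjective (PrimeSpectrum.comap φ₀.hom) := by
    have : Surjective (Spec.map φ₀) := by rw [hφ₀]; infer_instance
    intro x
    obtain ⟨y, hy⟩ := this.surj x
    exact ⟨y, hy⟩
  letI : Algebra R Γ(pullback f (Spec.map ε), ⊤) := φ₀.hom.toAlgebra
  haveI : Algebra.Smooth R Γ(pullback f (Spec.map ε), ⊤) := hsm₀
  obtain ⟨R', _, _, het, hff, ⟨ψ₀⟩⟩ :=
    exists_etale_faithfullyFlat_section Γ(pullback f (Spec.map ε), ⊤) hsurj₀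
  refine ⟨R', inferInstance, inferInstance, het, hff, ?_⟩
  let u₀ : Spec (CommRingCat.of R') ⟶ Y :=
    Spec.map (CommRingCat.ofHom ψ₀.toRingHom) ≫ (pullback f (Spec.map ε)).isoSpec.inv ≫
      pullback.fst f (Spec.map ε)
  have hu₀ : u₀ ≫ f = Spec.map (ε ≫ CommRingCat.ofHom (algebraMap R R')) := by
    have h1 : φ₀ ≫ CommRingCat.ofHom ψ₀.toRingHom = CommRingCat.ofHom (algebraMap R R') := by
      ext r
      exact ψ₀.commutes r
    simp only [u₀, Category.assoc]
    rw [pullback.condition, ← Category.assoc ((pullback f (Spec.map ε)).isoSpec.inv), ← hφ₀,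
      ← Spec.map_comp_assoc, h1, ← Spec.map_comp]
  obtain ⟨φ', hφ'⟩ : ∃ φ' : CommRingCat.of R⟦X⟧ ⟶ Γ(Y, ⊤), Spec.map φ' = Y.isoSpec.inv ≫ f :=
    ⟨Spec.preimage _, Spec.map_preimage _⟩
  obtain ⟨ρ', hρ'⟩ : ∃ ρ' : Γ(Y, ⊤) ⟶ CommRingCat.of R', Spec.map ρ' = u₀ ≫ Y.isoSpec.hom :=
    ⟨Spec.preimage _, Spec.map_preimage _⟩
  have hsm : φ'.hom.Smooth := (HasRingHomProperty.Spec_iff (P := @Smooth)).mp (by
    rw [hφ']; infer_instance)
  have hcomp : ρ'.hom.comp φ'.hom = (algebraMap R R').comp (constantCoeff (R := R)) := by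
    have h1 : Spec.map (φ' ≫ ρ') = Spec.map (ε ≫ CommRingCat.ofHom (algebraMap R R')) := by
      rw [Spec.map_comp, hρ', hφ', Category.assoc, Iso.hom_inv_id_assoc, hu₀]
    exact congrArg CommRingCat.Hom.hom (Spec.map_injective h1)
  obtain ⟨g, hg⟩ := exists_lift_powerSeries φ'.hom hsm ρ'.hom hcomp
  refine ⟨Spec.map (CommRingCat.ofHom g) ≫ Y.isoSpec.inv, ?_⟩
  rw [Category.assoc, ← hφ', ← Spec.map_comp]
  congr 1
  exact CommRingCat.hom_ext hg

end Groth.Agent.H8.ESS
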